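/-
The minuscule module of dimension 27 for the Chevalley datum of type `E₆`: tables and kernel checks.
-/
import Mathlib
import Cfsg.Agent.Lib.Chev.Tables
import Cfsg.Prelude.Def_ChevE6

set_option autoImplicit false
set_option linter.unusedSectionVars false
set_option linter.unusedVariables false

namespace Cfsg.Agent.Lib.KS71.E6a

open Cfsg Cfsg.Lie Cfsg.Lie.ChevalleyDatum Cfsg.Agent.Lib.Chev.Tables

/-- The action of the root vectors on the minuscule module, packed. -/
def tblE : ℕ := 3324572616564432360471000141463680943383925159238854343004518188304607740661934222456945190398441350341505401169460577591517694814158808318079761792668759632230986276463150226242846642726034185375058483042165310786792647408864007029000662700329805536738015861426907149047981754366155614308424575967132189717136925636842207442184563585899641561868085498968354624271547776829635698884368447142921876292756324556448552197565348023104523983253493368260131277506918061859131192528455969327869941385768192150253839478709177990159188687721281095324117516563432435424663914849656354580187131463873458188777052477375971066385588904005195344954053221306191266424775428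540732163046769316396618706577789543635533826928848963078434045772047316696311972217436396602524862177439498870469237822485036283276388625855244140033879924924687013781656992664720675327007936966000237091051063930415266914309816393583849496546517423516334177859280276023923563464160249397447341182888673072127284659328088863034126058927353747578956812239948021915802463944254338328424934205249117438818759892166466819944622954005537186822855939696164416077066869667102608173948710154454935220460160480834603075255070161970649764066746609320807608826139295966527169074662605174234981006191997390638575413156400263678641832189410062126277834504077095823293044814036601360460656083447826542067687738952389729135499922145519750986686015343984196825550876930102203927539257371229269467650807725527628432667683165796017934594001939695883727771517649639445385887648231379564207466949329829589322732086613566147689555243313618135727173465750642477996315299425669102676277708550664681973686307006313609444763323595731272095728837926790326578124412825355383591526974154494746130066474347753351391543037771268808949750133497143969009889921638090706355640077575334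50759107459583479636846922091090427461651422485852425288059167957699657799103780455764416195437380347742352360961226850377165990988779008475261567757708823407422281024077908149878145577289990623704198658423678179531952155445999309258883056036476748847028221659447351023323710931348172678937665752808184670306343747863903472530413568662808716336617242595503575284713061256227984772670907757026012140948307455075406320796747860430793878375203395277437873158718720135332254936849279806386071403532461451071145937259173475807899730579803980868781151479362190555756914104217005396943640437273533411633541830579638051304529788472840356793770617203196991181324110466689032642449430111777163781292841464871004857202953081164658573602548036494778115333233712675406301072563157553286115131185360514938952427457783838170763111711417275256898072385058676492203647642894625356010569562663709618615219951886884186453544010333472195167435163007808008580726886753491202014594115836867652306757452301686289242755300204365825147575981729419293080670217220174851081633190817145107714518165561720017388919140167378954981928136532231248763268206777417952442284204104906822896686034384354637302321819252282482975880121258582049266495970155912322246695196019002518885656057300842552217055629392466200175659547955277444199051885801069729222146619645929370087196567073357085967360147321116111082124692633131399697201284911093243344145943993898266592442489981384196930106089544605837154900493287362286171517712870304064408336748078194131617573152229138171594069762615175521899582751237646295167889094301609420963720026509451577788652758797000243785085394971637859165407936979241469098571333632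

/-- The weights of the minuscule module, packed. -/
def tblW : ℕ := 2849547253682441703006576094316582938573185053328243442237113504804720603603395597721283339896150

/-- The monomials of the cubic form. -/
def triT : List (ℕ × ℕ × ℕ × ℤ) := [(0,12,26,1), (0,15,25,-1), (0,17,24,1), (0,19,23,-1), (0,21,22,1), (1,10,26,-1), (1,13,25,1), (1,16,24,-1), (1,18,23,1), (1,20,22,-1), (2,8,26,1), (2,11,25,-1), (2,14,24,1), (2,18,21,-1), (2,19,20,1), (3,6,26,-1), (3,9,25,1), (3,14,23,-1), (3,16,21,1), (3,17,20,-1), (4,5,26,1), (4,7,25,-1), (4,14,22,1), (4,16,19,-1), (4,17,18,1), (5,9,24,-1), (5,11,23,1), (5,13,21,-1), (5,15,20,1), (6,7,24,1), (6,11,22,-1), (6,13,19,1), (6,15,18,-1), (7,8,23,-1), (7,10,21,1), (7,12,20,-1), (8,9,22,1), (8,13,17,-1), (8,15,16,1), (9,10,19,-1), (9,12,18,1), (10,11,17,1), (10,14,15,-1), (11,12,16,-1), (12,13,14,1)]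

/-- A digit of the table: `0` for a zero row, `1 + j` for `+ v_j`, `28 + j` for `- v_j`. -/
def dgt (r i : ℕ) : ℕ := (tblE >>> (6 * (27 * r + i))) % 64

/-- The position of the nonzero entry of a row. -/
def srcN (r i : ℕ) : ℕ := (dgt r i - 1) % 27

/-- The value of the nonzero entry of a row. -/
def sgnN (r i : ℕ) : ℤ := if dgt r i = 0 then 0 else if dgt r i ≤ 27 then 1 else -1

/-- The Dynkin labels of the weights. -/
def wtN (a k : ℕ) : ℤ := (((tblW >>> (2 * (6 * a + k))) % 4 : ℕ) : ℤ) - 1

/-- The value of the coroot of `r` on the weight `i`. -/
def hSN (r i : ℕ) : ℤ := sumRec (fun k => (chevE6.coroot.getD r #[]).getD k 0 * wtN i k) 6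

lemma srcN_lt (r i : ℕ) : srcN r i < 27 := Nat.mod_lt _ (by norm_num)

/-- A sparse linear form vanishes. -/
def vanL (T : List (ℤ × ℕ)) : Bool :=
  T.all fun x => decide ((T.map fun y => if y.2 = x.2 then y.1 else 0).sum = 0)

lemma vanL_spec {T : List (ℤ × ℕ)} (h : vanL T = true) (l : ℕ) :
    (T.map fun y => if y.2 = l then y.1 else 0).sum = 0 := by
  by_cases hl : ∃ x ∈ T, x.2 = l
  · obtain ⟨x, hx, rfl⟩ := hl
    simp only [vanL, List.all_eq_true, decide_eq_true_eq] at h
    exact h x hx
  · push Not at hl
    apply List.sum_eq_zero
    intro z hz
    obtain ⟨y, hy, rfl⟩ := List.mem_map.mp hz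
    simp [hl y hy]

def chkSq (r : ℕ) : Bool := allBelow 27 fun i => decide (sgnN r i * sgnN r (srcN r i) = 0)

def chkH (r : ℕ) : Bool :=
  allBelow 6 fun k => allBelow 27 fun i => decide (sgnN r i * (wtN (srcN r i) k - wtN i k + chevE6.cartan k r) = 0)

def chkNeg (r : ℕ) : Bool :=
  allBelow 27 fun i => vanL [(sgnN r i * sgnN (chevE6.neg r) (srcN r i), srcN (chevE6.neg r) (srcN r i)),
    (-(sgnN (chevE6.neg r) i * sgnN r (srcN (chevE6.neg r) i)), srcN r (srcN (chevE6.neg r) i)), (-hSN r i, i)]

def chkHe (r : ℕ) : Bool := allBelow 27 fun i => decide (hSN r i * sgnN r i = sgnN r i)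

def chkCh (r s u : ℕ) (M : ℤ) : Bool :=
  allBelow 27 fun i => vanL [(sgnN r i * sgnN s (srcN r i), srcN s (srcN r i)),
    (-(sgnN s i * sgnN r (srcN s i)), srcN r (srcN s i)), (-(M * sgnN u i), srcN u i)] &&
    decide (sgnN u i * sgnN r (srcN u i) = 0)

def chkComm (r s : ℕ) : Bool :=
  allBelow 27 fun i => vanL [(sgnN r i * sgnN s (srcN r i), srcN s (srcN r i)),
    (-(sgnN s i * sgnN r (srcN s i)), srcN r (srcN s i))]

/-- The entries of the chain table for a pair. -/
def chF (r s : ℕ) : List (ℕ × Array (ℕ × ℤ)) := (chevE6.chain.getD r #[]).toList.filter fun e => e.1 = s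

def chkPair (r s : ℕ) : Bool :=
  if s = r ∨ s = chevE6.neg r then true else
    match chF r s with
    | [] => chkComm r s
    | [e] =>
      match e.2.toList with
      | [(u, M)] => decide (u < 72) && chkCh r s u M
      | _ => false
    | _ => false

def chkRoot (r : ℕ) : Bool :=
  chkSq r && chkH r && chkNeg r && chkHe r && allBelow 72 (chkPair r)

set_option maxHeartbeats 0 in
set_option maxRecDepth 100000 in
theorem chkRoot_0 : chkRoot 0 = true := by decide +kernel

set_option maxHeartbeats 0 in
set_option maxRecDepth 100000 in
theorem chkRoot_1 : chkRoot 1 = true := by decide +kernel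

set_option maxHeartbeats 0 in
set_option maxRecDepth 100000 in
theorem chkRoot_2 : chkRoot 2 = true := by decide +kernel

set_option maxHeartbeats 0 in
set_option maxRecDepth 100000 in
theorem chkRoot_3 : chkRoot 3 = true := by decide +kernel

set_option maxHeartbeats 0 in
set_option maxRecDepth 100000 in
theorem chkRoot_4 : chkRoot 4 = true := by decide +kernel

set_option maxHeartbeats 0 in
set_option maxRecDepth 100000 in
theorem chkRoot_5 : chkRoot 5 = true := by decide +kernel

set_option maxHeartbeats 0 in
set_option maxRecDepth 100000 in
theorem chkRoot_6 : chkRoot 6 = true := by decide +kernel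

set_option maxHeartbeats 0 in
set_option maxRecDepth 100000 in
theorem chkRoot_7 : chkRoot 7 = true := by decide +kernel

set_option maxHeartbeats 0 in
set_option maxRecDepth 100000 in
theorem chkRoot_8 : chkRoot 8 = true := by decide +kernel

set_option maxHeartbeats 0 in
set_option maxRecDepth 100000 in
theorem chkRoot_9 : chkRoot 9 = true := by decide +kernel

set_option maxHeartbeats 0 in
set_option maxRecDepth 100000 in
theorem chkRoot_10 : chkRoot 10 = true := by decide +kernel

set_option maxHeartbeats 0 in
set_option maxRecDepth 100000 in
theorem chkRoot_11 : chkRoot 11 = true := by decide +kernel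

set_option maxHeartbeats 0 in
set_option maxRecDepth 100000 in
theorem chkRoot_12 : chkRoot 12 = true := by decide +kernel

set_option maxHeartbeats 0 in
set_option maxRecDepth 100000 in
theorem chkRoot_13 : chkRoot 13 = true := by decide +kernel

set_option maxHeartbeats 0 in
set_option maxRecDepth 100000 in
theorem chkRoot_14 : chkRoot 14 = true := by decide +kernel

set_option maxHeartbeats 0 in
set_option maxRecDepth 100000 in
theorem chkRoot_15 : chkRoot 15 = true := by decide +kernel

set_option maxHeartbeats 0 in
set_option maxRecDepth 100000 in
theorem chkRoot_16 : chkRoot 16 = true := by decide +kernel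

set_option maxHeartbeats 0 in
set_option maxRecDepth 100000 in
theorem chkRoot_17 : chkRoot 17 = true := by decide +kernel

set_option maxHeartbeats 0 in
set_option maxRecDepth 100000 in
theorem chkRoot_18 : chkRoot 18 = true := by decide +kernel

set_option maxHeartbeats 0 in
set_option maxRecDepth 100000 in
theorem chkRoot_19 : chkRoot 19 = true := by decide +kernel

set_option maxHeartbeats 0 in
set_option maxRecDepth 100000 in
theorem chkRoot_20 : chkRoot 20 = true := by decide +kernel

set_option maxHeartbeats 0 in
set_option maxRecDepth 100000 in
theorem chkRoot_21 : chkRoot 21 = true := by decide +kernel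

set_option maxHeartbeats 0 in
set_option maxRecDepth 100000 in
theorem chkRoot_22 : chkRoot 22 = true := by decide +kernel

set_option maxHeartbeats 0 in
set_option maxRecDepth 100000 in
theorem chkRoot_23 : chkRoot 23 = true := by decide +kernel

set_option maxHeartbeats 0 in
set_option maxRecDepth 100000 in
theorem chkRoot_24 : chkRoot 24 = true := by decide +kernel

set_option maxHeartbeats 0 in
set_option maxRecDepth 100000 in
theorem chkRoot_25 : chkRoot 25 = true := by decide +kernel

set_option maxHeartbeats 0 in
set_option maxRecDepth 100000 in
theorem chkRoot_26 : chkRoot 26 = true := by decide +kernel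

set_option maxHeartbeats 0 in
set_option maxRecDepth 100000 in
theorem chkRoot_27 : chkRoot 27 = true := by decide +kernel

set_option maxHeartbeats 0 in
set_option maxRecDepth 100000 in
theorem chkRoot_28 : chkRoot 28 = true := by decide +kernel

set_option maxHeartbeats 0 in
set_option maxRecDepth 100000 in
theorem chkRoot_29 : chkRoot 29 = true := by decide +kernel

set_option maxHeartbeats 0 in
set_option maxRecDepth 100000 in
theorem chkRoot_30 : chkRoot 30 = true := by decide +kernel

set_option maxHeartbeats 0 in
set_option maxRecDepth 100000 in
theorem chkRoot_31 : chkRoot 31 = true := by decide +kernel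

set_option maxHeartbeats 0 in
set_option maxRecDepth 100000 in
theorem chkRoot_32 : chkRoot 32 = true := by decide +kernel

set_option maxHeartbeats 0 in
set_option maxRecDepth 100000 in
theorem chkRoot_33 : chkRoot 33 = true := by decide +kernel

set_option maxHeartbeats 0 in
set_option maxRecDepth 100000 in
theorem chkRoot_34 : chkRoot 34 = true := by decide +kernel

set_option maxHeartbeats 0 in
set_option maxRecDepth 100000 in
theorem chkRoot_35 : chkRoot 35 = true := by decide +kernel

set_option maxHeartbeats 0 in
set_option maxRecDepth 100000 in
theorem chkRoot_36 : chkRoot 36 = true := by decide +kernel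

set_option maxHeartbeats 0 in
set_option maxRecDepth 100000 in
theorem chkRoot_37 : chkRoot 37 = true := by decide +kernel

set_option maxHeartbeats 0 in
set_option maxRecDepth 100000 in
theorem chkRoot_38 : chkRoot 38 = true := by decide +kernel

set_option maxHeartbeats 0 in
set_option maxRecDepth 100000 in
theorem chkRoot_39 : chkRoot 39 = true := by decide +kernel

set_option maxHeartbeats 0 in
set_option maxRecDepth 100000 in
theorem chkRoot_40 : chkRoot 40 = true := by decide +kernel

set_option maxHeartbeats 0 in
set_option maxRecDepth 100000 in
theorem chkRoot_41 : chkRoot 41 = true := by decide +kernel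

set_option maxHeartbeats 0 in
set_option maxRecDepth 100000 in
theorem chkRoot_42 : chkRoot 42 = true := by decide +kernel

set_option maxHeartbeats 0 in
set_option maxRecDepth 100000 in
theorem chkRoot_43 : chkRoot 43 = true := by decide +kernel

set_option maxHeartbeats 0 in
set_option maxRecDepth 100000 in
theorem chkRoot_44 : chkRoot 44 = true := by decide +kernel

set_option maxHeartbeats 0 in
set_option maxRecDepth 100000 in
theorem chkRoot_45 : chkRoot 45 = true := by decide +kernel

set_option maxHeartbeats 0 in
set_option maxRecDepth 100000 in
theorem chkRoot_46 : chkRoot 46 = true := by decide +kernel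

set_option maxHeartbeats 0 in
set_option maxRecDepth 100000 in
theorem chkRoot_47 : chkRoot 47 = true := by decide +kernel

set_option maxHeartbeats 0 in
set_option maxRecDepth 100000 in
theorem chkRoot_48 : chkRoot 48 = true := by decide +kernel

set_option maxHeartbeats 0 in
set_option maxRecDepth 100000 in
theorem chkRoot_49 : chkRoot 49 = true := by decide +kernel

set_option maxHeartbeats 0 in
set_option maxRecDepth 100000 in
theorem chkRoot_50 : chkRoot 50 = true := by decide +kernel

set_option maxHeartbeats 0 in
set_option maxRecDepth 100000 in
theorem chkRoot_51 : chkRoot 51 = true := by decide +kernel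

set_option maxHeartbeats 0 in
set_option maxRecDepth 100000 in
theorem chkRoot_52 : chkRoot 52 = true := by decide +kernel

set_option maxHeartbeats 0 in
set_option maxRecDepth 100000 in
theorem chkRoot_53 : chkRoot 53 = true := by decide +kernel

set_option maxHeartbeats 0 in
set_option maxRecDepth 100000 in
theorem chkRoot_54 : chkRoot 54 = true := by decide +kernel

set_option maxHeartbeats 0 in
set_option maxRecDepth 100000 in
theorem chkRoot_55 : chkRoot 55 = true := by decide +kernel

set_option maxHeartbeats 0 in
set_option maxRecDepth 100000 in
theorem chkRoot_56 : chkRoot 56 = true := by decide +kernel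

set_option maxHeartbeats 0 in
set_option maxRecDepth 100000 in
theorem chkRoot_57 : chkRoot 57 = true := by decide +kernel

set_option maxHeartbeats 0 in
set_option maxRecDepth 100000 in
theorem chkRoot_58 : chkRoot 58 = true := by decide +kernel

set_option maxHeartbeats 0 in
set_option maxRecDepth 100000 in
theorem chkRoot_59 : chkRoot 59 = true := by decide +kernel

set_option maxHeartbeats 0 in
set_option maxRecDepth 100000 in
theorem chkRoot_60 : chkRoot 60 = true := by decide +kernel

set_option maxHeartbeats 0 in
set_option maxRecDepth 100000 in
theorem chkRoot_61 : chkRoot 61 = true := by decide +kernel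

set_option maxHeartbeats 0 in
set_option maxRecDepth 100000 in
theorem chkRoot_62 : chkRoot 62 = true := by decide +kernel

set_option maxHeartbeats 0 in
set_option maxRecDepth 100000 in
theorem chkRoot_63 : chkRoot 63 = true := by decide +kernel

set_option maxHeartbeats 0 in
set_option maxRecDepth 100000 in
theorem chkRoot_64 : chkRoot 64 = true := by decide +kernel

set_option maxHeartbeats 0 in
set_option maxRecDepth 100000 in
theorem chkRoot_65 : chkRoot 65 = true := by decide +kernel

set_option maxHeartbeats 0 in
set_option maxRecDepth 100000 in
theorem chkRoot_66 : chkRoot 66 = true := by decide +kernel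

set_option maxHeartbeats 0 in
set_option maxRecDepth 100000 in
theorem chkRoot_67 : chkRoot 67 = true := by decide +kernel

set_option maxHeartbeats 0 in
set_option maxRecDepth 100000 in
theorem chkRoot_68 : chkRoot 68 = true := by decide +kernel

set_option maxHeartbeats 0 in
set_option maxRecDepth 100000 in
theorem chkRoot_69 : chkRoot 69 = true := by decide +kernel

set_option maxHeartbeats 0 in
set_option maxRecDepth 100000 in
theorem chkRoot_70 : chkRoot 70 = true := by decide +kernel

set_option maxHeartbeats 0 in
set_option maxRecDepth 100000 in
theorem chkRoot_71 : chkRoot 71 = true := by decide +kernel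

theorem chkRoot_all {r : ℕ} (hr : r < 72) : chkRoot r = true := by
  interval_cases r
  · exact chkRoot_0
  · exact chkRoot_1
  · exact chkRoot_2
  · exact chkRoot_3
  · exact chkRoot_4
  · exact chkRoot_5
  · exact chkRoot_6
  · exact chkRoot_7
  · exact chkRoot_8
  · exact chkRoot_9
  · exact chkRoot_10
  · exact chkRoot_11
  · exact chkRoot_12
  · exact chkRoot_13
  · exact chkRoot_14
  · exact chkRoot_15
  · exact chkRoot_16
  · exact chkRoot_17
  · exact chkRoot_18
  · exact chkRoot_19
  · exact chkRoot_20
  · exact chkRoot_21
  · exact chkRoot_22
  · exact chkRoot_23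
  · exact chkRoot_24
  · exact chkRoot_25
  · exact chkRoot_26
  · exact chkRoot_27
  · exact chkRoot_28
  · exact chkRoot_29
  · exact chkRoot_30
  · exact chkRoot_31
  · exact chkRoot_32
  · exact chkRoot_33
  · exact chkRoot_34
  · exact chkRoot_35
  · exact chkRoot_36
  · exact chkRoot_37
  · exact chkRoot_38
  · exact chkRoot_39
  · exact chkRoot_40
  · exact chkRoot_41
  · exact chkRoot_42
  · exact chkRoot_43
  · exact chkRoot_44
  · exact chkRoot_45
  · exact chkRoot_46
  · exact chkRoot_47
  · exact chkRoot_48
  · exact chkRoot_49
  · exact chkRoot_50
  · exact chkRoot_51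
  · exact chkRoot_52
  · exact chkRoot_53
  · exact chkRoot_54
  · exact chkRoot_55
  · exact chkRoot_56
  · exact chkRoot_57
  · exact chkRoot_58
  · exact chkRoot_59
  · exact chkRoot_60
  · exact chkRoot_61
  · exact chkRoot_62
  · exact chkRoot_63
  · exact chkRoot_64
  · exact chkRoot_65
  · exact chkRoot_66
  · exact chkRoot_67
  · exact chkRoot_68
  · exact chkRoot_69
  · exact chkRoot_70
  · exact chkRoot_71

/-- Inverse action. -/
def chkInv : Bool :=
  allBelow 72 fun r => allBelow 27 fun i =>
    decide (sgnN r i = 0) || (decide (srcN (chevE6.neg r) (srcN r i) = i) && decide (sgnN r i * sgnN (chevE6.neg r) (srcN r i) = 1))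

set_option maxHeartbeats 0 in
set_option maxRecDepth 100000 in
theorem chkInv_true : chkInv = true := by decide +kernel

def anyBelow : ℕ → (ℕ → Bool) → Bool
  | 0, _ => false
  | n + 1, p => p n || anyBelow n p

lemma anyBelow_spec {n : ℕ} {p : ℕ → Bool} (h : anyBelow n p = true) : ∃ k, k < n ∧ p k = true := by
  induction n with
  | zero => simp [anyBelow] at h
  | succ n ih =>
    simp only [anyBelow, Bool.or_eq_true] at h
    rcases h with h | h
    · exact ⟨n, Nat.lt_succ_self n, h⟩
    · obtain ⟨k, hk, h2⟩ := ih h
      exact ⟨k, Nat.lt_succ_of_lt hk, h2⟩

/-- Two different weights are separated by a root. -/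
def chkSep : Bool :=
  allBelow 27 fun i => allBelow 27 fun j => decide (i = j) ||
    anyBelow 72 fun r => !decide (sgnN r i = 0) && decide (sgnN r j = 0)

/-- The module is connected. -/
def chkTree : Bool :=
  allBelow 27 fun i => decide (i = 0) || anyBelow 72 fun r => !decide (sgnN r i = 0) && decide (srcN r i < i)

set_option maxHeartbeats 0 in
set_option maxRecDepth 100000 in
theorem chkSep_true : chkSep = true := by decide +kernel

set_option maxHeartbeats 0 in
set_option maxRecDepth 100000 in
theorem chkTree_true : chkTree = true := by decide +kernel

/-! ### The cubic form -/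

/-- Sorting a triple. -/
def srt3 (i j k : ℕ) : ℕ × ℕ × ℕ :=
  if i ≤ j then (if j ≤ k then (i, j, k) else if i ≤ k then (i, k, j) else (k, i, j))
  else (if i ≤ k then (j, i, k) else if j ≤ k then (j, k, i) else (k, j, i))

def L1 (r : ℕ) (a : ℕ × ℕ × ℕ × ℤ) : List (ℤ × (ℕ × ℕ × ℕ)) :=
  [(a.2.2.2 * sgnN r a.1, srt3 (srcN r a.1) a.2.1 a.2.2.1),
   (a.2.2.2 * sgnN r a.2.1, srt3 a.1 (srcN r a.2.1) a.2.2.1),
   (a.2.2.2 * sgnN r a.2.2.1, srt3 a.1 a.2.1 (srcN r a.2.2.1))]

def L2 (r : ℕ) (a : ℕ × ℕ × ℕ × ℤ) : List (ℤ × (ℕ × ℕ × ℕ)) :=
  [(a.2.2.2 * sgnN r a.1 * sgnN r a.2.1, srt3 (srcN r a.1) (srcN r a.2.1) a.2.2.1),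
   (a.2.2.2 * sgnN r a.1 * sgnN r a.2.2.1, srt3 (srcN r a.1) a.2.1 (srcN r a.2.2.1)),
   (a.2.2.2 * sgnN r a.2.1 * sgnN r a.2.2.1, srt3 a.1 (srcN r a.2.1) (srcN r a.2.2.1))]

def L3 (r : ℕ) (a : ℕ × ℕ × ℕ × ℤ) : List (ℤ × (ℕ × ℕ × ℕ)) :=
  [(a.2.2.2 * sgnN r a.1 * sgnN r a.2.1 * sgnN r a.2.2.1, srt3 (srcN r a.1) (srcN r a.2.1) (srcN r a.2.2.1))]

def vanG (L : List (ℤ × (ℕ × ℕ × ℕ))) : Bool :=
  let L' := L.filter fun x => x.1 ≠ 0
  L'.all fun x => decide (((L'.filter fun y => y.2 = x.2).map fun y => y.1).sum = 0)

def chkCub (r : ℕ) : Bool :=
  vanG (triT.flatMap (L1 r)) && vanG (triT.flatMap (L2 r)) && vanG (triT.flatMap (L3 r))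

set_option maxHeartbeats 0 in
set_option maxRecDepth 100000 in
theorem chkCub_0 : chkCub 0 = true := by decide +kernel

set_option maxHeartbeats 0 in
set_option maxRecDepth 100000 in
theorem chkCub_1 : chkCub 1 = true := by decide +kernel

set_option maxHeartbeats 0 in
set_option maxRecDepth 100000 in
theorem chkCub_2 : chkCub 2 = true := by decide +kernel

set_option maxHeartbeats 0 in
set_option maxRecDepth 100000 in
theorem chkCub_3 : chkCub 3 = true := by decide +kernel

set_option maxHeartbeats 0 in
set_option maxRecDepth 100000 in
theorem chkCub_4 : chkCub 4 = true := by decide +kernel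

set_option maxHeartbeats 0 in
set_option maxRecDepth 100000 in
theorem chkCub_5 : chkCub 5 = true := by decide +kernel

set_option maxHeartbeats 0 in
set_option maxRecDepth 100000 in
theorem chkCub_6 : chkCub 6 = true := by decide +kernel

set_option maxHeartbeats 0 in
set_option maxRecDepth 100000 in
theorem chkCub_7 : chkCub 7 = true := by decide +kernel

set_option maxHeartbeats 0 in
set_option maxRecDepth 100000 in
theorem chkCub_8 : chkCub 8 = true := by decide +kernel

set_option maxHeartbeats 0 in
set_option maxRecDepth 100000 in
theorem chkCub_9 : chkCub 9 = true := by decide +kernel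

set_option maxHeartbeats 0 in
set_option maxRecDepth 100000 in
theorem chkCub_10 : chkCub 10 = true := by decide +kernel

set_option maxHeartbeats 0 in
set_option maxRecDepth 100000 in
theorem chkCub_11 : chkCub 11 = true := by decide +kernel

set_option maxHeartbeats 0 in
set_option maxRecDepth 100000 in
theorem chkCub_12 : chkCub 12 = true := by decide +kernel

set_option maxHeartbeats 0 in
set_option maxRecDepth 100000 in
theorem chkCub_13 : chkCub 13 = true := by decide +kernel

set_option maxHeartbeats 0 in
set_option maxRecDepth 100000 in
theorem chkCub_14 : chkCub 14 = true := by decide +kernel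

set_option maxHeartbeats 0 in
set_option maxRecDepth 100000 in
theorem chkCub_15 : chkCub 15 = true := by decide +kernel

set_option maxHeartbeats 0 in
set_option maxRecDepth 100000 in
theorem chkCub_16 : chkCub 16 = true := by decide +kernel

set_option maxHeartbeats 0 in
set_option maxRecDepth 100000 in
theorem chkCub_17 : chkCub 17 = true := by decide +kernel

set_option maxHeartbeats 0 in
set_option maxRecDepth 100000 in
theorem chkCub_18 : chkCub 18 = true := by decide +kernel

set_option maxHeartbeats 0 in
set_option maxRecDepth 100000 in
theorem chkCub_19 : chkCub 19 = true := by decide +kernel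

set_option maxHeartbeats 0 in
set_option maxRecDepth 100000 in
theorem chkCub_20 : chkCub 20 = true := by decide +kernel

set_option maxHeartbeats 0 in
set_option maxRecDepth 100000 in
theorem chkCub_21 : chkCub 21 = true := by decide +kernel

set_option maxHeartbeats 0 in
set_option maxRecDepth 100000 in
theorem chkCub_22 : chkCub 22 = true := by decide +kernel

set_option maxHeartbeats 0 in
set_option maxRecDepth 100000 in
theorem chkCub_23 : chkCub 23 = true := by decide +kernel

set_option maxHeartbeats 0 in
set_option maxRecDepth 100000 in
theorem chkCub_24 : chkCub 24 = true := by decide +kernel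

set_option maxHeartbeats 0 in
set_option maxRecDepth 100000 in
theorem chkCub_25 : chkCub 25 = true := by decide +kernel

set_option maxHeartbeats 0 in
set_option maxRecDepth 100000 in
theorem chkCub_26 : chkCub 26 = true := by decide +kernel

set_option maxHeartbeats 0 in
set_option maxRecDepth 100000 in
theorem chkCub_27 : chkCub 27 = true := by decide +kernel

set_option maxHeartbeats 0 in
set_option maxRecDepth 100000 in
theorem chkCub_28 : chkCub 28 = true := by decide +kernel

set_option maxHeartbeats 0 in
set_option maxRecDepth 100000 in
theorem chkCub_29 : chkCub 29 = true := by decide +kernel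

set_option maxHeartbeats 0 in
set_option maxRecDepth 100000 in
theorem chkCub_30 : chkCub 30 = true := by decide +kernel

set_option maxHeartbeats 0 in
set_option maxRecDepth 100000 in
theorem chkCub_31 : chkCub 31 = true := by decide +kernel

set_option maxHeartbeats 0 in
set_option maxRecDepth 100000 in
theorem chkCub_32 : chkCub 32 = true := by decide +kernel

set_option maxHeartbeats 0 in
set_option maxRecDepth 100000 in
theorem chkCub_33 : chkCub 33 = true := by decide +kernel

set_option maxHeartbeats 0 in
set_option maxRecDepth 100000 in
theorem chkCub_34 : chkCub 34 = true := by decide +kernel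

set_option maxHeartbeats 0 in
set_option maxRecDepth 100000 in
theorem chkCub_35 : chkCub 35 = true := by decide +kernel

set_option maxHeartbeats 0 in
set_option maxRecDepth 100000 in
theorem chkCub_36 : chkCub 36 = true := by decide +kernel

set_option maxHeartbeats 0 in
set_option maxRecDepth 100000 in
theorem chkCub_37 : chkCub 37 = true := by decide +kernel

set_option maxHeartbeats 0 in
set_option maxRecDepth 100000 in
theorem chkCub_38 : chkCub 38 = true := by decide +kernel

set_option maxHeartbeats 0 in
set_option maxRecDepth 100000 in
theorem chkCub_39 : chkCub 39 = true := by decide +kernel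

set_option maxHeartbeats 0 in
set_option maxRecDepth 100000 in
theorem chkCub_40 : chkCub 40 = true := by decide +kernel

set_option maxHeartbeats 0 in
set_option maxRecDepth 100000 in
theorem chkCub_41 : chkCub 41 = true := by decide +kernel

set_option maxHeartbeats 0 in
set_option maxRecDepth 100000 in
theorem chkCub_42 : chkCub 42 = true := by decide +kernel

set_option maxHeartbeats 0 in
set_option maxRecDepth 100000 in
theorem chkCub_43 : chkCub 43 = true := by decide +kernel

set_option maxHeartbeats 0 in
set_option maxRecDepth 100000 in
theorem chkCub_44 : chkCub 44 = true := by decide +kernel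

set_option maxHeartbeats 0 in
set_option maxRecDepth 100000 in
theorem chkCub_45 : chkCub 45 = true := by decide +kernel

set_option maxHeartbeats 0 in
set_option maxRecDepth 100000 in
theorem chkCub_46 : chkCub 46 = true := by decide +kernel

set_option maxHeartbeats 0 in
set_option maxRecDepth 100000 in
theorem chkCub_47 : chkCub 47 = true := by decide +kernel

set_option maxHeartbeats 0 in
set_option maxRecDepth 100000 in
theorem chkCub_48 : chkCub 48 = true := by decide +kernel

set_option maxHeartbeats 0 in
set_option maxRecDepth 100000 in
theorem chkCub_49 : chkCub 49 = true := by decide +kernel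

set_option maxHeartbeats 0 in
set_option maxRecDepth 100000 in
theorem chkCub_50 : chkCub 50 = true := by decide +kernel

set_option maxHeartbeats 0 in
set_option maxRecDepth 100000 in
theorem chkCub_51 : chkCub 51 = true := by decide +kernel

set_option maxHeartbeats 0 in
set_option maxRecDepth 100000 in
theorem chkCub_52 : chkCub 52 = true := by decide +kernel

set_option maxHeartbeats 0 in
set_option maxRecDepth 100000 in
theorem chkCub_53 : chkCub 53 = true := by decide +kernel

set_option maxHeartbeats 0 in
set_option maxRecDepth 100000 in
theorem chkCub_54 : chkCub 54 = true := by decide +kernel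

set_option maxHeartbeats 0 in
set_option maxRecDepth 100000 in
theorem chkCub_55 : chkCub 55 = true := by decide +kernel

set_option maxHeartbeats 0 in
set_option maxRecDepth 100000 in
theorem chkCub_56 : chkCub 56 = true := by decide +kernel

set_option maxHeartbeats 0 in
set_option maxRecDepth 100000 in
theorem chkCub_57 : chkCub 57 = true := by decide +kernel

set_option maxHeartbeats 0 in
set_option maxRecDepth 100000 in
theorem chkCub_58 : chkCub 58 = true := by decide +kernel

set_option maxHeartbeats 0 in
set_option maxRecDepth 100000 in
theorem chkCub_59 : chkCub 59 = true := by decide +kernel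

set_option maxHeartbeats 0 in
set_option maxRecDepth 100000 in
theorem chkCub_60 : chkCub 60 = true := by decide +kernel

set_option maxHeartbeats 0 in
set_option maxRecDepth 100000 in
theorem chkCub_61 : chkCub 61 = true := by decide +kernel

set_option maxHeartbeats 0 in
set_option maxRecDepth 100000 in
theorem chkCub_62 : chkCub 62 = true := by decide +kernel

set_option maxHeartbeats 0 in
set_option maxRecDepth 100000 in
theorem chkCub_63 : chkCub 63 = true := by decide +kernel

set_option maxHeartbeats 0 in
set_option maxRecDepth 100000 in
theorem chkCub_64 : chkCub 64 = true := by decide +kernel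

set_option maxHeartbeats 0 in
set_option maxRecDepth 100000 in
theorem chkCub_65 : chkCub 65 = true := by decide +kernel

set_option maxHeartbeats 0 in
set_option maxRecDepth 100000 in
theorem chkCub_66 : chkCub 66 = true := by decide +kernel

set_option maxHeartbeats 0 in
set_option maxRecDepth 100000 in
theorem chkCub_67 : chkCub 67 = true := by decide +kernel

set_option maxHeartbeats 0 in
set_option maxRecDepth 100000 in
theorem chkCub_68 : chkCub 68 = true := by decide +kernel

set_option maxHeartbeats 0 in
set_option maxRecDepth 100000 in
theorem chkCub_69 : chkCub 69 = true := by decide +kernel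

set_option maxHeartbeats 0 in
set_option maxRecDepth 100000 in
theorem chkCub_70 : chkCub 70 = true := by decide +kernel

set_option maxHeartbeats 0 in
set_option maxRecDepth 100000 in
theorem chkCub_71 : chkCub 71 = true := by decide +kernel

theorem chkCub_all {r : ℕ} (hr : r < 72) : chkCub r = true := by
  interval_cases r
  · exact chkCub_0
  · exact chkCub_1
  · exact chkCub_2
  · exact chkCub_3
  · exact chkCub_4
  · exact chkCub_5
  · exact chkCub_6
  · exact chkCub_7
  · exact chkCub_8
  · exact chkCub_9
  · exact chkCub_10
  · exact chkCub_11
  · exact chkCub_12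
  · exact chkCub_13
  · exact chkCub_14
  · exact chkCub_15
  · exact chkCub_16
  · exact chkCub_17
  · exact chkCub_18
  · exact chkCub_19
  · exact chkCub_20
  · exact chkCub_21
  · exact chkCub_22
  · exact chkCub_23
  · exact chkCub_24
  · exact chkCub_25
  · exact chkCub_26
  · exact chkCub_27
  · exact chkCub_28
  · exact chkCub_29
  · exact chkCub_30
  · exact chkCub_31
  · exact chkCub_32
  · exact chkCub_33
  · exact chkCub_34
  · exact chkCub_35
  · exact chkCub_36
  · exact chkCub_37
  · exact chkCub_38
  · exact chkCub_39
  · exact chkCub_40
  · exact chkCub_41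
  · exact chkCub_42
  · exact chkCub_43
  · exact chkCub_44
  · exact chkCub_45
  · exact chkCub_46
  · exact chkCub_47
  · exact chkCub_48
  · exact chkCub_49
  · exact chkCub_50
  · exact chkCub_51
  · exact chkCub_52
  · exact chkCub_53
  · exact chkCub_54
  · exact chkCub_55
  · exact chkCub_56
  · exact chkCub_57
  · exact chkCub_58
  · exact chkCub_59
  · exact chkCub_60
  · exact chkCub_61
  · exact chkCub_62
  · exact chkCub_63
  · exact chkCub_64
  · exact chkCub_65
  · exact chkCub_66
  · exact chkCub_67
  · exact chkCub_68
  · exact chkCub_69
  · exact chkCub_70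
  · exact chkCub_71

/-- The weights of a monomial add up to zero. -/
def chkTri : Bool :=
  triT.all fun a => decide (a.1 < 27) && decide (a.2.1 < 27) && decide (a.2.2.1 < 27) &&
    allBelow 6 fun k => decide (wtN a.1 k + wtN a.2.1 k + wtN a.2.2.1 k = 0)

set_option maxHeartbeats 0 in
set_option maxRecDepth 100000 in
theorem chkTri_true : chkTri = true := by decide +kernel

/-- The value of the cubic form on a test vector. -/
def bT (i : ℕ) : ℤ := if i = 0 ∨ i = 12 ∨ i = 26 then 1 else 0

set_option maxHeartbeats 0 in
set_option maxRecDepth 100000 in
theorem bT_sum : (triT.map fun a => a.2.2.2 * (bT a.1 * bT a.2.1 * bT a.2.2.1)).sum = 1 := by decide +kernel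

/-! ### The weights span the lattice -/

def combT : List (List ℤ) := [[1, 0, 0, 0, 0, 0], [0, 0, 0, 1, 1, 1], [1, 1, 0, 0, 0, 0], [1, 1, 1, 0, 0, 0],
  [1, 1, 1, 0, -1, -1], [1, 1, 1, -1, -1, -2]]

def selT : List ℕ := [0, 1, 2, 3, 5, 9]

def cmb (k a : ℕ) : ℤ := (combT.getD k []).getD a 0

def sel (a : ℕ) : ℕ := selT.getD a 0

def chkSpan : Bool :=
  allBelow 6 fun k => allBelow 6 fun m =>
    sumRec (fun a => cmb k a * wtN (sel a) m) 6 == if m = k then 1 else 0

theorem chkSpan_true : chkSpan = true := by decide +kernel

/-! ### The reflections -/

def aN (i j : ℕ) : ℤ :=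
  if sgnN (chevE6.simple i) j ≠ 0 then sgnN (chevE6.simple i) j
  else if sgnN (chevE6.neg (chevE6.simple i)) j ≠ 0 then - sgnN (chevE6.neg (chevE6.simple i)) j else 1

def bN (i j : ℕ) : ℕ :=
  if sgnN (chevE6.simple i) j ≠ 0 then srcN (chevE6.simple i) j
  else if sgnN (chevE6.neg (chevE6.simple i)) j ≠ 0 then srcN (chevE6.neg (chevE6.simple i)) j else j

/-- The reflection on the weights. -/
def chkRefl : Bool :=
  allBelow 6 fun i => allBelow 27 fun j =>
    let e := chevE6.simple i
    let f := chevE6.neg e
    vanL [(1, j), (sgnN e j, srcN e j), (-sgnN f j, srcN f j), (-(sgnN e j * sgnN f (srcN e j)), srcN f (srcN e j)),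
      (-(sgnN f j * sgnN e (srcN f j)), srcN e (srcN f j)), (-aN i j, bN i j)] &&
    decide (bN i j < 27) && (aN i j == 1 || aN i j == -1) &&
    allBelow 6 fun k => decide (wtN (bN i j) k = wtN j k - wtN j i * chevE6.cartan k (chevE6.simple i))

set_option maxHeartbeats 0 in
set_option maxRecDepth 100000 in
theorem chkRefl_true : chkRefl = true := by decide +kernel

end Cfsg.Agent.Lib.KS71.E6a
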