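/-
The root lattice of type `E₇`: the kernel checks.
-/
import Mathlib
import Cfsg.Agent.Lib.KS71.E7k

set_option autoImplicit false
set_option linter.unusedSectionVars false
set_option linter.unusedVariables false

namespace Cfsg.Agent.Lib.KS71.E7k1

open scoped MatrixGroups Matrix
open Cfsg Cfsg.Lie Cfsg.Lie.ChevalleyDatum
open Cfsg.Agent.Lib.Chev.Tables Cfsg.Agent.Lib.KS71.HCc Cfsg.Agent.Lib.KS71.HCh Cfsg.Agent.Lib.KS71.HCi
open Cfsg.Agent.Lib.KS71.E6j Cfsg.Agent.Lib.KS71.E7j Cfsg.Agent.Lib.KS71.E7k

/-- The check for the digit table at a root. -/
def chkIp (a : ℕ) : Bool := allBelow 126 fun b => decide (((ipD a b : ℕ) : ℤ) = ipN a b + 2)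

/-- The check of all tuples with a given second member. -/
def chkS (s₁ : ℕ) : Bool :=
  allBelow 126 fun s₂ => !(Nat.beq (ipD p₀ s₂) 3 && Nat.beq (ipD s₁ s₂) 3) ||
    allBelow 126 fun s₃ => !(Nat.beq (ipD p₀ s₃) 2 && Nat.beq (ipD s₁ s₃) 3 && Nat.beq (ipD s₂ s₃) 3) ||
      chkO (oL s₁ s₂ s₃)

/-- The possible second members. -/
def L1 : List ℕ := [1, 33, 34, 35, 36, 37, 38, 39, 40, 41, 42, 48, 49, 50, 51, 52, 94, 95, 96, 97, 98, 99, 100, 101, 102, 103, 104, 105, 106, 107, 108, 125]

set_option maxRecDepth 100000 in
set_option maxHeartbeats 0 in
theorem ip_0 : chkIp 0 = true := by decide +kernel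

set_option maxRecDepth 100000 in
set_option maxHeartbeats 0 in
theorem ip_1 : chkIp 1 = true := by decide +kernel

set_option maxRecDepth 100000 in
set_option maxHeartbeats 0 in
theorem ip_2 : chkIp 2 = true := by decide +kernel

set_option maxRecDepth 100000 in
set_option maxHeartbeats 0 in
theorem ip_3 : chkIp 3 = true := by decide +kernel

set_option maxRecDepth 100000 in
set_option maxHeartbeats 0 in
theorem ip_4 : chkIp 4 = true := by decide +kernel

set_option maxRecDepth 100000 in
set_option maxHeartbeats 0 in
theorem ip_5 : chkIp 5 = true := by decide +kernel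

set_option maxRecDepth 100000 in
set_option maxHeartbeats 0 in
theorem ip_6 : chkIp 6 = true := by decide +kernel

set_option maxRecDepth 100000 in
set_option maxHeartbeats 0 in
theorem ip_7 : chkIp 7 = true := by decide +kernel

set_option maxRecDepth 100000 in
set_option maxHeartbeats 0 in
theorem ip_8 : chkIp 8 = true := by decide +kernel

set_option maxRecDepth 100000 in
set_option maxHeartbeats 0 in
theorem ip_9 : chkIp 9 = true := by decide +kernel

set_option maxRecDepth 100000 in
set_option maxHeartbeats 0 in
theorem ip_10 : chkIp 10 = true := by decide +kernel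

set_option maxRecDepth 100000 in
set_option maxHeartbeats 0 in
theorem ip_11 : chkIp 11 = true := by decide +kernel

set_option maxRecDepth 100000 in
set_option maxHeartbeats 0 in
theorem ip_12 : chkIp 12 = true := by decide +kernel

set_option maxRecDepth 100000 in
set_option maxHeartbeats 0 in
theorem ip_13 : chkIp 13 = true := by decide +kernel

set_option maxRecDepth 100000 in
set_option maxHeartbeats 0 in
theorem ip_14 : chkIp 14 = true := by decide +kernel

set_option maxRecDepth 100000 in
set_option maxHeartbeats 0 in
theorem ip_15 : chkIp 15 = true := by decide +kernel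

set_option maxRecDepth 100000 in
set_option maxHeartbeats 0 in
theorem ip_16 : chkIp 16 = true := by decide +kernel

set_option maxRecDepth 100000 in
set_option maxHeartbeats 0 in
theorem ip_17 : chkIp 17 = true := by decide +kernel

set_option maxRecDepth 100000 in
set_option maxHeartbeats 0 in
theorem ip_18 : chkIp 18 = true := by decide +kernel

set_option maxRecDepth 100000 in
set_option maxHeartbeats 0 in
theorem ip_19 : chkIp 19 = true := by decide +kernel

set_option maxRecDepth 100000 in
set_option maxHeartbeats 0 in
theorem ip_20 : chkIp 20 = true := by decide +kernel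

set_option maxRecDepth 100000 in
set_option maxHeartbeats 0 in
theorem ip_21 : chkIp 21 = true := by decide +kernel

set_option maxRecDepth 100000 in
set_option maxHeartbeats 0 in
theorem ip_22 : chkIp 22 = true := by decide +kernel

set_option maxRecDepth 100000 in
set_option maxHeartbeats 0 in
theorem ip_23 : chkIp 23 = true := by decide +kernel

set_option maxRecDepth 100000 in
set_option maxHeartbeats 0 in
theorem ip_24 : chkIp 24 = true := by decide +kernel

set_option maxRecDepth 100000 in
set_option maxHeartbeats 0 in
theorem ip_25 : chkIp 25 = true := by decide +kernel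

set_option maxRecDepth 100000 in
set_option maxHeartbeats 0 in
theorem ip_26 : chkIp 26 = true := by decide +kernel

set_option maxRecDepth 100000 in
set_option maxHeartbeats 0 in
theorem ip_27 : chkIp 27 = true := by decide +kernel

set_option maxRecDepth 100000 in
set_option maxHeartbeats 0 in
theorem ip_28 : chkIp 28 = true := by decide +kernel

set_option maxRecDepth 100000 in
set_option maxHeartbeats 0 in
theorem ip_29 : chkIp 29 = true := by decide +kernel

set_option maxRecDepth 100000 in
set_option maxHeartbeats 0 in
theorem ip_30 : chkIp 30 = true := by decide +kernel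

set_option maxRecDepth 100000 in
set_option maxHeartbeats 0 in
theorem ip_31 : chkIp 31 = true := by decide +kernel

set_option maxRecDepth 100000 in
set_option maxHeartbeats 0 in
theorem ip_32 : chkIp 32 = true := by decide +kernel

set_option maxRecDepth 100000 in
set_option maxHeartbeats 0 in
theorem ip_33 : chkIp 33 = true := by decide +kernel

set_option maxRecDepth 100000 in
set_option maxHeartbeats 0 in
theorem ip_34 : chkIp 34 = true := by decide +kernel

set_option maxRecDepth 100000 in
set_option maxHeartbeats 0 in
theorem ip_35 : chkIp 35 = true := by decide +kernel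

set_option maxRecDepth 100000 in
set_option maxHeartbeats 0 in
theorem ip_36 : chkIp 36 = true := by decide +kernel

set_option maxRecDepth 100000 in
set_option maxHeartbeats 0 in
theorem ip_37 : chkIp 37 = true := by decide +kernel

set_option maxRecDepth 100000 in
set_option maxHeartbeats 0 in
theorem ip_38 : chkIp 38 = true := by decide +kernel

set_option maxRecDepth 100000 in
set_option maxHeartbeats 0 in
theorem ip_39 : chkIp 39 = true := by decide +kernel

set_option maxRecDepth 100000 in
set_option maxHeartbeats 0 in
theorem ip_40 : chkIp 40 = true := by decide +kernel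

set_option maxRecDepth 100000 in
set_option maxHeartbeats 0 in
theorem ip_41 : chkIp 41 = true := by decide +kernel

set_option maxRecDepth 100000 in
set_option maxHeartbeats 0 in
theorem ip_42 : chkIp 42 = true := by decide +kernel

set_option maxRecDepth 100000 in
set_option maxHeartbeats 0 in
theorem ip_43 : chkIp 43 = true := by decide +kernel

set_option maxRecDepth 100000 in
set_option maxHeartbeats 0 in
theorem ip_44 : chkIp 44 = true := by decide +kernel

set_option maxRecDepth 100000 in
set_option maxHeartbeats 0 in
theorem ip_45 : chkIp 45 = true := by decide +kernel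

set_option maxRecDepth 100000 in
set_option maxHeartbeats 0 in
theorem ip_46 : chkIp 46 = true := by decide +kernel

set_option maxRecDepth 100000 in
set_option maxHeartbeats 0 in
theorem ip_47 : chkIp 47 = true := by decide +kernel

set_option maxRecDepth 100000 in
set_option maxHeartbeats 0 in
theorem ip_48 : chkIp 48 = true := by decide +kernel

set_option maxRecDepth 100000 in
set_option maxHeartbeats 0 in
theorem ip_49 : chkIp 49 = true := by decide +kernel

set_option maxRecDepth 100000 in
set_option maxHeartbeats 0 in
theorem ip_50 : chkIp 50 = true := by decide +kernel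

set_option maxRecDepth 100000 in
set_option maxHeartbeats 0 in
theorem ip_51 : chkIp 51 = true := by decide +kernel

set_option maxRecDepth 100000 in
set_option maxHeartbeats 0 in
theorem ip_52 : chkIp 52 = true := by decide +kernel

set_option maxRecDepth 100000 in
set_option maxHeartbeats 0 in
theorem ip_53 : chkIp 53 = true := by decide +kernel

set_option maxRecDepth 100000 in
set_option maxHeartbeats 0 in
theorem ip_54 : chkIp 54 = true := by decide +kernel

set_option maxRecDepth 100000 in
set_option maxHeartbeats 0 in
theorem ip_55 : chkIp 55 = true := by decide +kernel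

set_option maxRecDepth 100000 in
set_option maxHeartbeats 0 in
theorem ip_56 : chkIp 56 = true := by decide +kernel

set_option maxRecDepth 100000 in
set_option maxHeartbeats 0 in
theorem ip_57 : chkIp 57 = true := by decide +kernel

set_option maxRecDepth 100000 in
set_option maxHeartbeats 0 in
theorem ip_58 : chkIp 58 = true := by decide +kernel

set_option maxRecDepth 100000 in
set_option maxHeartbeats 0 in
theorem ip_59 : chkIp 59 = true := by decide +kernel

set_option maxRecDepth 100000 in
set_option maxHeartbeats 0 in
theorem ip_60 : chkIp 60 = true := by decide +kernel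

set_option maxRecDepth 100000 in
set_option maxHeartbeats 0 in
theorem ip_61 : chkIp 61 = true := by decide +kernel

set_option maxRecDepth 100000 in
set_option maxHeartbeats 0 in
theorem ip_62 : chkIp 62 = true := by decide +kernel

set_option maxRecDepth 100000 in
set_option maxHeartbeats 0 in
theorem ip_63 : chkIp 63 = true := by decide +kernel

set_option maxRecDepth 100000 in
set_option maxHeartbeats 0 in
theorem ip_64 : chkIp 64 = true := by decide +kernel

set_option maxRecDepth 100000 in
set_option maxHeartbeats 0 in
theorem ip_65 : chkIp 65 = true := by decide +kernel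

set_option maxRecDepth 100000 in
set_option maxHeartbeats 0 in
theorem ip_66 : chkIp 66 = true := by decide +kernel

set_option maxRecDepth 100000 in
set_option maxHeartbeats 0 in
theorem ip_67 : chkIp 67 = true := by decide +kernel

set_option maxRecDepth 100000 in
set_option maxHeartbeats 0 in
theorem ip_68 : chkIp 68 = true := by decide +kernel

set_option maxRecDepth 100000 in
set_option maxHeartbeats 0 in
theorem ip_69 : chkIp 69 = true := by decide +kernel

set_option maxRecDepth 100000 in
set_option maxHeartbeats 0 in
theorem ip_70 : chkIp 70 = true := by decide +kernel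

set_option maxRecDepth 100000 in
set_option maxHeartbeats 0 in
theorem ip_71 : chkIp 71 = true := by decide +kernel

set_option maxRecDepth 100000 in
set_option maxHeartbeats 0 in
theorem ip_72 : chkIp 72 = true := by decide +kernel

set_option maxRecDepth 100000 in
set_option maxHeartbeats 0 in
theorem ip_73 : chkIp 73 = true := by decide +kernel

set_option maxRecDepth 100000 in
set_option maxHeartbeats 0 in
theorem ip_74 : chkIp 74 = true := by decide +kernel

set_option maxRecDepth 100000 in
set_option maxHeartbeats 0 in
theorem ip_75 : chkIp 75 = true := by decide +kernel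

set_option maxRecDepth 100000 in
set_option maxHeartbeats 0 in
theorem ip_76 : chkIp 76 = true := by decide +kernel

set_option maxRecDepth 100000 in
set_option maxHeartbeats 0 in
theorem ip_77 : chkIp 77 = true := by decide +kernel

set_option maxRecDepth 100000 in
set_option maxHeartbeats 0 in
theorem ip_78 : chkIp 78 = true := by decide +kernel

set_option maxRecDepth 100000 in
set_option maxHeartbeats 0 in
theorem ip_79 : chkIp 79 = true := by decide +kernel

set_option maxRecDepth 100000 in
set_option maxHeartbeats 0 in
theorem ip_80 : chkIp 80 = true := by decide +kernel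

set_option maxRecDepth 100000 in
set_option maxHeartbeats 0 in
theorem ip_81 : chkIp 81 = true := by decide +kernel

set_option maxRecDepth 100000 in
set_option maxHeartbeats 0 in
theorem ip_82 : chkIp 82 = true := by decide +kernel

set_option maxRecDepth 100000 in
set_option maxHeartbeats 0 in
theorem ip_83 : chkIp 83 = true := by decide +kernel

set_option maxRecDepth 100000 in
set_option maxHeartbeats 0 in
theorem ip_84 : chkIp 84 = true := by decide +kernel

set_option maxRecDepth 100000 in
set_option maxHeartbeats 0 in
theorem ip_85 : chkIp 85 = true := by decide +kernel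

set_option maxRecDepth 100000 in
set_option maxHeartbeats 0 in
theorem ip_86 : chkIp 86 = true := by decide +kernel

set_option maxRecDepth 100000 in
set_option maxHeartbeats 0 in
theorem ip_87 : chkIp 87 = true := by decide +kernel

set_option maxRecDepth 100000 in
set_option maxHeartbeats 0 in
theorem ip_88 : chkIp 88 = true := by decide +kernel

set_option maxRecDepth 100000 in
set_option maxHeartbeats 0 in
theorem ip_89 : chkIp 89 = true := by decide +kernel

set_option maxRecDepth 100000 in
set_option maxHeartbeats 0 in
theorem ip_90 : chkIp 90 = true := by decide +kernel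

set_option maxRecDepth 100000 in
set_option maxHeartbeats 0 in
theorem ip_91 : chkIp 91 = true := by decide +kernel

set_option maxRecDepth 100000 in
set_option maxHeartbeats 0 in
theorem ip_92 : chkIp 92 = true := by decide +kernel

set_option maxRecDepth 100000 in
set_option maxHeartbeats 0 in
theorem ip_93 : chkIp 93 = true := by decide +kernel

set_option maxRecDepth 100000 in
set_option maxHeartbeats 0 in
theorem ip_94 : chkIp 94 = true := by decide +kernel

set_option maxRecDepth 100000 in
set_option maxHeartbeats 0 in
theorem ip_95 : chkIp 95 = true := by decide +kernel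

set_option maxRecDepth 100000 in
set_option maxHeartbeats 0 in
theorem ip_96 : chkIp 96 = true := by decide +kernel

set_option maxRecDepth 100000 in
set_option maxHeartbeats 0 in
theorem ip_97 : chkIp 97 = true := by decide +kernel

set_option maxRecDepth 100000 in
set_option maxHeartbeats 0 in
theorem ip_98 : chkIp 98 = true := by decide +kernel

set_option maxRecDepth 100000 in
set_option maxHeartbeats 0 in
theorem ip_99 : chkIp 99 = true := by decide +kernel

set_option maxRecDepth 100000 in
set_option maxHeartbeats 0 in
theorem ip_100 : chkIp 100 = true := by decide +kernel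

set_option maxRecDepth 100000 in
set_option maxHeartbeats 0 in
theorem ip_101 : chkIp 101 = true := by decide +kernel

set_option maxRecDepth 100000 in
set_option maxHeartbeats 0 in
theorem ip_102 : chkIp 102 = true := by decide +kernel

set_option maxRecDepth 100000 in
set_option maxHeartbeats 0 in
theorem ip_103 : chkIp 103 = true := by decide +kernel

set_option maxRecDepth 100000 in
set_option maxHeartbeats 0 in
theorem ip_104 : chkIp 104 = true := by decide +kernel

set_option maxRecDepth 100000 in
set_option maxHeartbeats 0 in
theorem ip_105 : chkIp 105 = true := by decide +kernel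

set_option maxRecDepth 100000 in
set_option maxHeartbeats 0 in
theorem ip_106 : chkIp 106 = true := by decide +kernel

set_option maxRecDepth 100000 in
set_option maxHeartbeats 0 in
theorem ip_107 : chkIp 107 = true := by decide +kernel

set_option maxRecDepth 100000 in
set_option maxHeartbeats 0 in
theorem ip_108 : chkIp 108 = true := by decide +kernel

set_option maxRecDepth 100000 in
set_option maxHeartbeats 0 in
theorem ip_109 : chkIp 109 = true := by decide +kernel

set_option maxRecDepth 100000 in
set_option maxHeartbeats 0 in
theorem ip_110 : chkIp 110 = true := by decide +kernel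

set_option maxRecDepth 100000 in
set_option maxHeartbeats 0 in
theorem ip_111 : chkIp 111 = true := by decide +kernel

set_option maxRecDepth 100000 in
set_option maxHeartbeats 0 in
theorem ip_112 : chkIp 112 = true := by decide +kernel

set_option maxRecDepth 100000 in
set_option maxHeartbeats 0 in
theorem ip_113 : chkIp 113 = true := by decide +kernel

set_option maxRecDepth 100000 in
set_option maxHeartbeats 0 in
theorem ip_114 : chkIp 114 = true := by decide +kernel

set_option maxRecDepth 100000 in
set_option maxHeartbeats 0 in
theorem ip_115 : chkIp 115 = true := by decide +kernel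

set_option maxRecDepth 100000 in
set_option maxHeartbeats 0 in
theorem ip_116 : chkIp 116 = true := by decide +kernel

set_option maxRecDepth 100000 in
set_option maxHeartbeats 0 in
theorem ip_117 : chkIp 117 = true := by decide +kernel

set_option maxRecDepth 100000 in
set_option maxHeartbeats 0 in
theorem ip_118 : chkIp 118 = true := by decide +kernel

set_option maxRecDepth 100000 in
set_option maxHeartbeats 0 in
theorem ip_119 : chkIp 119 = true := by decide +kernel

set_option maxRecDepth 100000 in
set_option maxHeartbeats 0 in
theorem ip_120 : chkIp 120 = true := by decide +kernel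

set_option maxRecDepth 100000 in
set_option maxHeartbeats 0 in
theorem ip_121 : chkIp 121 = true := by decide +kernel

set_option maxRecDepth 100000 in
set_option maxHeartbeats 0 in
theorem ip_122 : chkIp 122 = true := by decide +kernel

set_option maxRecDepth 100000 in
set_option maxHeartbeats 0 in
theorem ip_123 : chkIp 123 = true := by decide +kernel

set_option maxRecDepth 100000 in
set_option maxHeartbeats 0 in
theorem ip_124 : chkIp 124 = true := by decide +kernel

set_option maxRecDepth 100000 in
set_option maxHeartbeats 0 in
theorem ip_125 : chkIp 125 = true := by decide +kernel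

lemma ipD_chk {a : ℕ} (ha : a < 126) : chkIp a = true := by
  interval_cases a
  · exact ip_0
  · exact ip_1
  · exact ip_2
  · exact ip_3
  · exact ip_4
  · exact ip_5
  · exact ip_6
  · exact ip_7
  · exact ip_8
  · exact ip_9
  · exact ip_10
  · exact ip_11
  · exact ip_12
  · exact ip_13
  · exact ip_14
  · exact ip_15
  · exact ip_16
  · exact ip_17
  · exact ip_18
  · exact ip_19
  · exact ip_20
  · exact ip_21
  · exact ip_22
  · exact ip_23
  · exact ip_24
  · exact ip_25
  · exact ip_26
  · exact ip_27
  · exact ip_28
  · exact ip_29
  · exact ip_30
  · exact ip_31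
  · exact ip_32
  · exact ip_33
  · exact ip_34
  · exact ip_35
  · exact ip_36
  · exact ip_37
  · exact ip_38
  · exact ip_39
  · exact ip_40
  · exact ip_41
  · exact ip_42
  · exact ip_43
  · exact ip_44
  · exact ip_45
  · exact ip_46
  · exact ip_47
  · exact ip_48
  · exact ip_49
  · exact ip_50
  · exact ip_51
  · exact ip_52
  · exact ip_53
  · exact ip_54
  · exact ip_55
  · exact ip_56
  · exact ip_57
  · exact ip_58
  · exact ip_59
  · exact ip_60
  · exact ip_61
  · exact ip_62
  · exact ip_63
  · exact ip_64
  · exact ip_65
  · exact ip_66
  · exact ip_67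
  · exact ip_68
  · exact ip_69
  · exact ip_70
  · exact ip_71
  · exact ip_72
  · exact ip_73
  · exact ip_74
  · exact ip_75
  · exact ip_76
  · exact ip_77
  · exact ip_78
  · exact ip_79
  · exact ip_80
  · exact ip_81
  · exact ip_82
  · exact ip_83
  · exact ip_84
  · exact ip_85
  · exact ip_86
  · exact ip_87
  · exact ip_88
  · exact ip_89
  · exact ip_90
  · exact ip_91
  · exact ip_92
  · exact ip_93
  · exact ip_94
  · exact ip_95
  · exact ip_96
  · exact ip_97
  · exact ip_98
  · exact ip_99
  · exact ip_100
  · exact ip_101
  · exact ip_102
  · exact ip_103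
  · exact ip_104
  · exact ip_105
  · exact ip_106
  · exact ip_107
  · exact ip_108
  · exact ip_109
  · exact ip_110
  · exact ip_111
  · exact ip_112
  · exact ip_113
  · exact ip_114
  · exact ip_115
  · exact ip_116
  · exact ip_117
  · exact ip_118
  · exact ip_119
  · exact ip_120
  · exact ip_121
  · exact ip_122
  · exact ip_123
  · exact ip_124
  · exact ip_125

set_option maxRecDepth 100000 in
set_option maxHeartbeats 0 in
theorem chkS_1 : chkS 1 = true := by decide +kernel

set_option maxRecDepth 100000 in
set_option maxHeartbeats 0 in
theorem chkS_33 : chkS 33 = true := by decide +kernel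

set_option maxRecDepth 100000 in
set_option maxHeartbeats 0 in
theorem chkS_34 : chkS 34 = true := by decide +kernel

set_option maxRecDepth 100000 in
set_option maxHeartbeats 0 in
theorem chkS_35 : chkS 35 = true := by decide +kernel

set_option maxRecDepth 100000 in
set_option maxHeartbeats 0 in
theorem chkS_36 : chkS 36 = true := by decide +kernel

set_option maxRecDepth 100000 in
set_option maxHeartbeats 0 in
theorem chkS_37 : chkS 37 = true := by decide +kernel

set_option maxRecDepth 100000 in
set_option maxHeartbeats 0 in
theorem chkS_38 : chkS 38 = true := by decide +kernel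

set_option maxRecDepth 100000 in
set_option maxHeartbeats 0 in
theorem chkS_39 : chkS 39 = true := by decide +kernel

set_option maxRecDepth 100000 in
set_option maxHeartbeats 0 in
theorem chkS_40 : chkS 40 = true := by decide +kernel

set_option maxRecDepth 100000 in
set_option maxHeartbeats 0 in
theorem chkS_41 : chkS 41 = true := by decide +kernel

set_option maxRecDepth 100000 in
set_option maxHeartbeats 0 in
theorem chkS_42 : chkS 42 = true := by decide +kernel

set_option maxRecDepth 100000 in
set_option maxHeartbeats 0 in
theorem chkS_48 : chkS 48 = true := by decide +kernel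

set_option maxRecDepth 100000 in
set_option maxHeartbeats 0 in
theorem chkS_49 : chkS 49 = true := by decide +kernel

set_option maxRecDepth 100000 in
set_option maxHeartbeats 0 in
theorem chkS_50 : chkS 50 = true := by decide +kernel

set_option maxRecDepth 100000 in
set_option maxHeartbeats 0 in
theorem chkS_51 : chkS 51 = true := by decide +kernel

set_option maxRecDepth 100000 in
set_option maxHeartbeats 0 in
theorem chkS_52 : chkS 52 = true := by decide +kernel

set_option maxRecDepth 100000 in
set_option maxHeartbeats 0 in
theorem chkS_94 : chkS 94 = true := by decide +kernel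

set_option maxRecDepth 100000 in
set_option maxHeartbeats 0 in
theorem chkS_95 : chkS 95 = true := by decide +kernel

set_option maxRecDepth 100000 in
set_option maxHeartbeats 0 in
theorem chkS_96 : chkS 96 = true := by decide +kernel

set_option maxRecDepth 100000 in
set_option maxHeartbeats 0 in
theorem chkS_97 : chkS 97 = true := by decide +kernel

set_option maxRecDepth 100000 in
set_option maxHeartbeats 0 in
theorem chkS_98 : chkS 98 = true := by decide +kernel

set_option maxRecDepth 100000 in
set_option maxHeartbeats 0 in
theorem chkS_99 : chkS 99 = true := by decide +kernel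

set_option maxRecDepth 100000 in
set_option maxHeartbeats 0 in
theorem chkS_100 : chkS 100 = true := by decide +kernel

set_option maxRecDepth 100000 in
set_option maxHeartbeats 0 in
theorem chkS_101 : chkS 101 = true := by decide +kernel

set_option maxRecDepth 100000 in
set_option maxHeartbeats 0 in
theorem chkS_102 : chkS 102 = true := by decide +kernel

set_option maxRecDepth 100000 in
set_option maxHeartbeats 0 in
theorem chkS_103 : chkS 103 = true := by decide +kernel

set_option maxRecDepth 100000 in
set_option maxHeartbeats 0 in
theorem chkS_104 : chkS 104 = true := by decide +kernel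

set_option maxRecDepth 100000 in
set_option maxHeartbeats 0 in
theorem chkS_105 : chkS 105 = true := by decide +kernel

set_option maxRecDepth 100000 in
set_option maxHeartbeats 0 in
theorem chkS_106 : chkS 106 = true := by decide +kernel

set_option maxRecDepth 100000 in
set_option maxHeartbeats 0 in
theorem chkS_107 : chkS 107 = true := by decide +kernel

set_option maxRecDepth 100000 in
set_option maxHeartbeats 0 in
theorem chkS_108 : chkS 108 = true := by decide +kernel

set_option maxRecDepth 100000 in
set_option maxHeartbeats 0 in
theorem chkS_125 : chkS 125 = true := by decide +kernel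

set_option maxRecDepth 100000 in
lemma L1_all : allBelow 126 (fun s => !Nat.beq (ipD p₀ s) 3 || L1.contains s) = true := by decide +kernel

lemma chkS_all {s : ℕ} (hs : s ∈ L1) : chkS s = true := by
  simp only [L1, List.mem_cons, List.not_mem_nil, or_false] at hs
  rcases hs with rfl | rfl | rfl | rfl | rfl | rfl | rfl | rfl | rfl | rfl | rfl | rfl | rfl | rfl | rfl | rfl | rfl | rfl | rfl | rfl | rfl | rfl | rfl | rfl | rfl | rfl | rfl | rfl | rfl | rfl | rfl | rfl
  · exact chkS_1
  · exact chkS_33
  · exact chkS_34
  · exact chkS_35
  · exact chkS_36
  · exact chkS_37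
  · exact chkS_38
  · exact chkS_39
  · exact chkS_40
  · exact chkS_41
  · exact chkS_42
  · exact chkS_48
  · exact chkS_49
  · exact chkS_50
  · exact chkS_51
  · exact chkS_52
  · exact chkS_94
  · exact chkS_95
  · exact chkS_96
  · exact chkS_97
  · exact chkS_98
  · exact chkS_99
  · exact chkS_100
  · exact chkS_101
  · exact chkS_102
  · exact chkS_103
  · exact chkS_104
  · exact chkS_105
  · exact chkS_106
  · exact chkS_107
  · exact chkS_108
  · exact chkS_125

variable (h : Tab chevE7)

include h in
lemma B_crd_D {a b : ℕ} (ha : a < 126) (hb : b < 126) : B GE7 (crd chevE7 a) (crd chevE7 b) = ((ipD a b : ℕ) : ℤ) - 2 := by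
  rw [B_crd h ha hb]
  have e := of_decide_eq_true (allBelow_spec (ipD_chk ha) b hb)
  omega


/-- The finite check for a tuple of roots containing the fundamental root. -/
lemma chk_tuple {s₁ s₂ s₃ : ℕ} (h1 : s₁ < 126) (h2 : s₂ < 126) (h3 : s₃ < 126) (e01 : ipD p₀ s₁ = 3) (e02 : ipD p₀ s₂ = 3) (e12 : ipD s₁ s₂ = 3)
    (e03 : ipD p₀ s₃ = 2) (e13 : ipD s₁ s₃ = 3) (e23 : ipD s₂ s₃ = 3) : chkO (oL s₁ s₂ s₃) = true := by
  have c0 := allBelow_spec L1_all s₁ h1
  simp only [Bool.or_eq_true, Bool.not_eq_true', beq_false'] at c0
  rcases c0 with c0 | c0
  · exact absurd e01 c0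
  have c : chkS s₁ = true := chkS_all (by simpa using c0)
  have c2 := allBelow_spec c s₂ h2
  simp only [Bool.or_eq_true, Bool.not_eq_true', Bool.and_eq_false_iff, beq_false'] at c2
  rcases c2 with c2 | c2
  · rcases c2 with c2 | c2
    · exact absurd e02 c2
    · exact absurd e12 c2
  have c3 := allBelow_spec c2 s₃ h3
  simp only [Bool.or_eq_true, Bool.not_eq_true', Bool.and_eq_false_iff, beq_false'] at c3
  rcases c3 with c3 | c3
  · rcases c3 with (c3 | c3) | c3
    · exact absurd e03 c3
    · exact absurd e13 c3
    · exact absurd e23 c3
  · exact c3

end Cfsg.Agent.Lib.KS71.E7k1
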