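/-
The minuscule module of dimension 56 for the Chevalley datum of type `E₇`: the kernel checks of the relations, part 0.
-/
import Mathlib
import Cfsg.Agent.Lib.KS71.E7a

set_option autoImplicit false

namespace Cfsg.Agent.Lib.KS71.E7r0

open Cfsg.Agent.Lib.Chev.Tables Cfsg.Agent.Lib.KS71.E7a

set_option maxHeartbeats 0 in
set_option maxRecDepth 100000 in
theorem chk_0 : chkRoot 0 = true := by decide +kernel

set_option maxHeartbeats 0 in
set_option maxRecDepth 100000 in
theorem chk_1 : chkRoot 1 = true := by decide +kernel

set_option maxHeartbeats 0 in
set_option maxRecDepth 100000 in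
theorem chk_2 : chkRoot 2 = true := by decide +kernel

set_option maxHeartbeats 0 in
set_option maxRecDepth 100000 in
theorem chk_3 : chkRoot 3 = true := by decide +kernel

set_option maxHeartbeats 0 in
set_option maxRecDepth 100000 in
theorem chk_4 : chkRoot 4 = true := by decide +kernel

set_option maxHeartbeats 0 in
set_option maxRecDepth 100000 in
theorem chk_5 : chkRoot 5 = true := by decide +kernel

set_option maxHeartbeats 0 in
set_option maxRecDepth 100000 in
theorem chk_6 : chkRoot 6 = true := by decide +kernel

set_option maxHeartbeats 0 in
set_option maxRecDepth 100000 in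
theorem chk_7 : chkRoot 7 = true := by decide +kernel

set_option maxHeartbeats 0 in
set_option maxRecDepth 100000 in
theorem chk_8 : chkRoot 8 = true := by decide +kernel

set_option maxHeartbeats 0 in
set_option maxRecDepth 100000 in
theorem chk_9 : chkRoot 9 = true := by decide +kernel

set_option maxHeartbeats 0 in
set_option maxRecDepth 100000 in
theorem chk_10 : chkRoot 10 = true := by decide +kernel

set_option maxHeartbeats 0 in
set_option maxRecDepth 100000 in
theorem chk_11 : chkRoot 11 = true := by decide +kernel

set_option maxHeartbeats 0 in
set_option maxRecDepth 100000 in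
theorem chk_12 : chkRoot 12 = true := by decide +kernel

set_option maxHeartbeats 0 in
set_option maxRecDepth 100000 in
theorem chk_13 : chkRoot 13 = true := by decide +kernel

set_option maxHeartbeats 0 in
set_option maxRecDepth 100000 in
theorem chk_14 : chkRoot 14 = true := by decide +kernel

set_option maxHeartbeats 0 in
set_option maxRecDepth 100000 in
theorem chk_15 : chkRoot 15 = true := by decide +kernel

set_option maxHeartbeats 0 in
set_option maxRecDepth 100000 in
theorem chk_16 : chkRoot 16 = true := by decide +kernel

set_option maxHeartbeats 0 in
set_option maxRecDepth 100000 in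
theorem chk_17 : chkRoot 17 = true := by decide +kernel

set_option maxHeartbeats 0 in
set_option maxRecDepth 100000 in
theorem chk_18 : chkRoot 18 = true := by decide +kernel

set_option maxHeartbeats 0 in
set_option maxRecDepth 100000 in
theorem chk_19 : chkRoot 19 = true := by decide +kernel

set_option maxHeartbeats 0 in
set_option maxRecDepth 100000 in
theorem chk_20 : chkRoot 20 = true := by decide +kernel

set_option maxHeartbeats 0 in
set_option maxRecDepth 100000 in
theorem chk_21 : chkRoot 21 = true := by decide +kernel

set_option maxHeartbeats 0 in
set_option maxRecDepth 100000 in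
theorem chk_22 : chkRoot 22 = true := by decide +kernel

set_option maxHeartbeats 0 in
set_option maxRecDepth 100000 in
theorem chk_23 : chkRoot 23 = true := by decide +kernel

set_option maxHeartbeats 0 in
set_option maxRecDepth 100000 in
theorem chk_24 : chkRoot 24 = true := by decide +kernel

set_option maxHeartbeats 0 in
set_option maxRecDepth 100000 in
theorem chk_25 : chkRoot 25 = true := by decide +kernel

set_option maxHeartbeats 0 in
set_option maxRecDepth 100000 in
theorem chk_26 : chkRoot 26 = true := by decide +kernel

set_option maxHeartbeats 0 in
set_option maxRecDepth 100000 in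
theorem chk_27 : chkRoot 27 = true := by decide +kernel

set_option maxHeartbeats 0 in
set_option maxRecDepth 100000 in
theorem chk_28 : chkRoot 28 = true := by decide +kernel

set_option maxHeartbeats 0 in
set_option maxRecDepth 100000 in
theorem chk_29 : chkRoot 29 = true := by decide +kernel

set_option maxHeartbeats 0 in
set_option maxRecDepth 100000 in
theorem chk_30 : chkRoot 30 = true := by decide +kernel

set_option maxHeartbeats 0 in
set_option maxRecDepth 100000 in
theorem chk_31 : chkRoot 31 = true := by decide +kernel

set_option maxHeartbeats 0 in
set_option maxRecDepth 100000 in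
theorem chk_32 : chkRoot 32 = true := by decide +kernel

set_option maxHeartbeats 0 in
set_option maxRecDepth 100000 in
theorem chk_33 : chkRoot 33 = true := by decide +kernel

set_option maxHeartbeats 0 in
set_option maxRecDepth 100000 in
theorem chk_34 : chkRoot 34 = true := by decide +kernel

set_option maxHeartbeats 0 in
set_option maxRecDepth 100000 in
theorem chk_35 : chkRoot 35 = true := by decide +kernel

set_option maxHeartbeats 0 in
set_option maxRecDepth 100000 in
theorem chk_36 : chkRoot 36 = true := by decide +kernel

set_option maxHeartbeats 0 in
set_option maxRecDepth 100000 in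
theorem chk_37 : chkRoot 37 = true := by decide +kernel

set_option maxHeartbeats 0 in
set_option maxRecDepth 100000 in
theorem chk_38 : chkRoot 38 = true := by decide +kernel

set_option maxHeartbeats 0 in
set_option maxRecDepth 100000 in
theorem chk_39 : chkRoot 39 = true := by decide +kernel

set_option maxHeartbeats 0 in
set_option maxRecDepth 100000 in
theorem chk_40 : chkRoot 40 = true := by decide +kernel

set_option maxHeartbeats 0 in
set_option maxRecDepth 100000 in
theorem chk_41 : chkRoot 41 = true := by decide +kernel

theorem chk {r : ℕ} (h1 : 0 ≤ r) (h2 : r < 42) : chkRoot r = true := by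
  interval_cases r
  · exact chk_0
  · exact chk_1
  · exact chk_2
  · exact chk_3
  · exact chk_4
  · exact chk_5
  · exact chk_6
  · exact chk_7
  · exact chk_8
  · exact chk_9
  · exact chk_10
  · exact chk_11
  · exact chk_12
  · exact chk_13
  · exact chk_14
  · exact chk_15
  · exact chk_16
  · exact chk_17
  · exact chk_18
  · exact chk_19
  · exact chk_20
  · exact chk_21
  · exact chk_22
  · exact chk_23
  · exact chk_24
  · exact chk_25
  · exact chk_26
  · exact chk_27
  · exact chk_28
  · exact chk_29
  · exact chk_30
  · exact chk_31
  · exact chk_32
  · exact chk_33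
  · exact chk_34
  · exact chk_35
  · exact chk_36
  · exact chk_37
  · exact chk_38
  · exact chk_39
  · exact chk_40
  · exact chk_41

end Cfsg.Agent.Lib.KS71.E7r0
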