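/-
The minuscule module of dimension 56 for the Chevalley datum of type `E₇`: the kernel checks of the relations, part 1.
-/
import Mathlib
import Cfsg.Agent.Lib.KS71.E7a

set_option autoImplicit false

namespace Cfsg.Agent.Lib.KS71.E7r1

open Cfsg.Agent.Lib.Chev.Tables Cfsg.Agent.Lib.KS71.E7a

set_option maxHeartbeats 0 in
set_option maxRecDepth 100000 in
theorem chk_42 : chkRoot 42 = true := by decide +kernel

set_option maxHeartbeats 0 in
set_option maxRecDepth 100000 in
theorem chk_43 : chkRoot 43 = true := by decide +kernel

set_option maxHeartbeats 0 in
set_option maxRecDepth 100000 in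
theorem chk_44 : chkRoot 44 = true := by decide +kernel

set_option maxHeartbeats 0 in
set_option maxRecDepth 100000 in
theorem chk_45 : chkRoot 45 = true := by decide +kernel

set_option maxHeartbeats 0 in
set_option maxRecDepth 100000 in
theorem chk_46 : chkRoot 46 = true := by decide +kernel

set_option maxHeartbeats 0 in
set_option maxRecDepth 100000 in
theorem chk_47 : chkRoot 47 = true := by decide +kernel

set_option maxHeartbeats 0 in
set_option maxRecDepth 100000 in
theorem chk_48 : chkRoot 48 = true := by decide +kernel

set_option maxHeartbeats 0 in
set_option maxRecDepth 100000 in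
theorem chk_49 : chkRoot 49 = true := by decide +kernel

set_option maxHeartbeats 0 in
set_option maxRecDepth 100000 in
theorem chk_50 : chkRoot 50 = true := by decide +kernel

set_option maxHeartbeats 0 in
set_option maxRecDepth 100000 in
theorem chk_51 : chkRoot 51 = true := by decide +kernel

set_option maxHeartbeats 0 in
set_option maxRecDepth 100000 in
theorem chk_52 : chkRoot 52 = true := by decide +kernel

set_option maxHeartbeats 0 in
set_option maxRecDepth 100000 in
theorem chk_53 : chkRoot 53 = true := by decide +kernel

set_option maxHeartbeats 0 in
set_option maxRecDepth 100000 in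
theorem chk_54 : chkRoot 54 = true := by decide +kernel

set_option maxHeartbeats 0 in
set_option maxRecDepth 100000 in
theorem chk_55 : chkRoot 55 = true := by decide +kernel

set_option maxHeartbeats 0 in
set_option maxRecDepth 100000 in
theorem chk_56 : chkRoot 56 = true := by decide +kernel

set_option maxHeartbeats 0 in
set_option maxRecDepth 100000 in
theorem chk_57 : chkRoot 57 = true := by decide +kernel

set_option maxHeartbeats 0 in
set_option maxRecDepth 100000 in
theorem chk_58 : chkRoot 58 = true := by decide +kernel

set_option maxHeartbeats 0 in
set_option maxRecDepth 100000 in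
theorem chk_59 : chkRoot 59 = true := by decide +kernel

set_option maxHeartbeats 0 in
set_option maxRecDepth 100000 in
theorem chk_60 : chkRoot 60 = true := by decide +kernel

set_option maxHeartbeats 0 in
set_option maxRecDepth 100000 in
theorem chk_61 : chkRoot 61 = true := by decide +kernel

set_option maxHeartbeats 0 in
set_option maxRecDepth 100000 in
theorem chk_62 : chkRoot 62 = true := by decide +kernel

set_option maxHeartbeats 0 in
set_option maxRecDepth 100000 in
theorem chk_63 : chkRoot 63 = true := by decide +kernel

set_option maxHeartbeats 0 in
set_option maxRecDepth 100000 in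
theorem chk_64 : chkRoot 64 = true := by decide +kernel

set_option maxHeartbeats 0 in
set_option maxRecDepth 100000 in
theorem chk_65 : chkRoot 65 = true := by decide +kernel

set_option maxHeartbeats 0 in
set_option maxRecDepth 100000 in
theorem chk_66 : chkRoot 66 = true := by decide +kernel

set_option maxHeartbeats 0 in
set_option maxRecDepth 100000 in
theorem chk_67 : chkRoot 67 = true := by decide +kernel

set_option maxHeartbeats 0 in
set_option maxRecDepth 100000 in
theorem chk_68 : chkRoot 68 = true := by decide +kernel

set_option maxHeartbeats 0 in
set_option maxRecDepth 100000 in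
theorem chk_69 : chkRoot 69 = true := by decide +kernel

set_option maxHeartbeats 0 in
set_option maxRecDepth 100000 in
theorem chk_70 : chkRoot 70 = true := by decide +kernel

set_option maxHeartbeats 0 in
set_option maxRecDepth 100000 in
theorem chk_71 : chkRoot 71 = true := by decide +kernel

set_option maxHeartbeats 0 in
set_option maxRecDepth 100000 in
theorem chk_72 : chkRoot 72 = true := by decide +kernel

set_option maxHeartbeats 0 in
set_option maxRecDepth 100000 in
theorem chk_73 : chkRoot 73 = true := by decide +kernel

set_option maxHeartbeats 0 in
set_option maxRecDepth 100000 in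
theorem chk_74 : chkRoot 74 = true := by decide +kernel

set_option maxHeartbeats 0 in
set_option maxRecDepth 100000 in
theorem chk_75 : chkRoot 75 = true := by decide +kernel

set_option maxHeartbeats 0 in
set_option maxRecDepth 100000 in
theorem chk_76 : chkRoot 76 = true := by decide +kernel

set_option maxHeartbeats 0 in
set_option maxRecDepth 100000 in
theorem chk_77 : chkRoot 77 = true := by decide +kernel

set_option maxHeartbeats 0 in
set_option maxRecDepth 100000 in
theorem chk_78 : chkRoot 78 = true := by decide +kernel

set_option maxHeartbeats 0 in
set_option maxRecDepth 100000 in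
theorem chk_79 : chkRoot 79 = true := by decide +kernel

set_option maxHeartbeats 0 in
set_option maxRecDepth 100000 in
theorem chk_80 : chkRoot 80 = true := by decide +kernel

set_option maxHeartbeats 0 in
set_option maxRecDepth 100000 in
theorem chk_81 : chkRoot 81 = true := by decide +kernel

set_option maxHeartbeats 0 in
set_option maxRecDepth 100000 in
theorem chk_82 : chkRoot 82 = true := by decide +kernel

set_option maxHeartbeats 0 in
set_option maxRecDepth 100000 in
theorem chk_83 : chkRoot 83 = true := by decide +kernel

theorem chk {r : ℕ} (h1 : 42 ≤ r) (h2 : r < 84) : chkRoot r = true := by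
  interval_cases r
  · exact chk_42
  · exact chk_43
  · exact chk_44
  · exact chk_45
  · exact chk_46
  · exact chk_47
  · exact chk_48
  · exact chk_49
  · exact chk_50
  · exact chk_51
  · exact chk_52
  · exact chk_53
  · exact chk_54
  · exact chk_55
  · exact chk_56
  · exact chk_57
  · exact chk_58
  · exact chk_59
  · exact chk_60
  · exact chk_61
  · exact chk_62
  · exact chk_63
  · exact chk_64
  · exact chk_65
  · exact chk_66
  · exact chk_67
  · exact chk_68
  · exact chk_69
  · exact chk_70
  · exact chk_71
  · exact chk_72
  · exact chk_73
  · exact chk_74
  · exact chk_75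
  · exact chk_76
  · exact chk_77
  · exact chk_78
  · exact chk_79
  · exact chk_80
  · exact chk_81
  · exact chk_82
  · exact chk_83

end Cfsg.Agent.Lib.KS71.E7r1
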