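/-
The minuscule module of dimension 56 for the Chevalley datum of type `E₇`: the kernel checks of the relations, part 2.
-/
import Mathlib
import Cfsg.Agent.Lib.KS71.E7a

set_option autoImplicit false

namespace Cfsg.Agent.Lib.KS71.E7r2

open Cfsg.Agent.Lib.Chev.Tables Cfsg.Agent.Lib.KS71.E7a

set_option maxHeartbeats 0 in
set_option maxRecDepth 100000 in
theorem chk_84 : chkRoot 84 = true := by decide +kernel

set_option maxHeartbeats 0 in
set_option maxRecDepth 100000 in
theorem chk_85 : chkRoot 85 = true := by decide +kernel

set_option maxHeartbeats 0 in
set_option maxRecDepth 100000 in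
theorem chk_86 : chkRoot 86 = true := by decide +kernel

set_option maxHeartbeats 0 in
set_option maxRecDepth 100000 in
theorem chk_87 : chkRoot 87 = true := by decide +kernel

set_option maxHeartbeats 0 in
set_option maxRecDepth 100000 in
theorem chk_88 : chkRoot 88 = true := by decide +kernel

set_option maxHeartbeats 0 in
set_option maxRecDepth 100000 in
theorem chk_89 : chkRoot 89 = true := by decide +kernel

set_option maxHeartbeats 0 in
set_option maxRecDepth 100000 in
theorem chk_90 : chkRoot 90 = true := by decide +kernel

set_option maxHeartbeats 0 in
set_option maxRecDepth 100000 in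
theorem chk_91 : chkRoot 91 = true := by decide +kernel

set_option maxHeartbeats 0 in
set_option maxRecDepth 100000 in
theorem chk_92 : chkRoot 92 = true := by decide +kernel

set_option maxHeartbeats 0 in
set_option maxRecDepth 100000 in
theorem chk_93 : chkRoot 93 = true := by decide +kernel

set_option maxHeartbeats 0 in
set_option maxRecDepth 100000 in
theorem chk_94 : chkRoot 94 = true := by decide +kernel

set_option maxHeartbeats 0 in
set_option maxRecDepth 100000 in
theorem chk_95 : chkRoot 95 = true := by decide +kernel

set_option maxHeartbeats 0 in
set_option maxRecDepth 100000 in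
theorem chk_96 : chkRoot 96 = true := by decide +kernel

set_option maxHeartbeats 0 in
set_option maxRecDepth 100000 in
theorem chk_97 : chkRoot 97 = true := by decide +kernel

set_option maxHeartbeats 0 in
set_option maxRecDepth 100000 in
theorem chk_98 : chkRoot 98 = true := by decide +kernel

set_option maxHeartbeats 0 in
set_option maxRecDepth 100000 in
theorem chk_99 : chkRoot 99 = true := by decide +kernel

set_option maxHeartbeats 0 in
set_option maxRecDepth 100000 in
theorem chk_100 : chkRoot 100 = true := by decide +kernel

set_option maxHeartbeats 0 in
set_option maxRecDepth 100000 in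
theorem chk_101 : chkRoot 101 = true := by decide +kernel

set_option maxHeartbeats 0 in
set_option maxRecDepth 100000 in
theorem chk_102 : chkRoot 102 = true := by decide +kernel

set_option maxHeartbeats 0 in
set_option maxRecDepth 100000 in
theorem chk_103 : chkRoot 103 = true := by decide +kernel

set_option maxHeartbeats 0 in
set_option maxRecDepth 100000 in
theorem chk_104 : chkRoot 104 = true := by decide +kernel

set_option maxHeartbeats 0 in
set_option maxRecDepth 100000 in
theorem chk_105 : chkRoot 105 = true := by decide +kernel

set_option maxHeartbeats 0 in
set_option maxRecDepth 100000 in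
theorem chk_106 : chkRoot 106 = true := by decide +kernel

set_option maxHeartbeats 0 in
set_option maxRecDepth 100000 in
theorem chk_107 : chkRoot 107 = true := by decide +kernel

set_option maxHeartbeats 0 in
set_option maxRecDepth 100000 in
theorem chk_108 : chkRoot 108 = true := by decide +kernel

set_option maxHeartbeats 0 in
set_option maxRecDepth 100000 in
theorem chk_109 : chkRoot 109 = true := by decide +kernel

set_option maxHeartbeats 0 in
set_option maxRecDepth 100000 in
theorem chk_110 : chkRoot 110 = true := by decide +kernel

set_option maxHeartbeats 0 in
set_option maxRecDepth 100000 in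
theorem chk_111 : chkRoot 111 = true := by decide +kernel

set_option maxHeartbeats 0 in
set_option maxRecDepth 100000 in
theorem chk_112 : chkRoot 112 = true := by decide +kernel

set_option maxHeartbeats 0 in
set_option maxRecDepth 100000 in
theorem chk_113 : chkRoot 113 = true := by decide +kernel

set_option maxHeartbeats 0 in
set_option maxRecDepth 100000 in
theorem chk_114 : chkRoot 114 = true := by decide +kernel

set_option maxHeartbeats 0 in
set_option maxRecDepth 100000 in
theorem chk_115 : chkRoot 115 = true := by decide +kernel

set_option maxHeartbeats 0 in
set_option maxRecDepth 100000 in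
theorem chk_116 : chkRoot 116 = true := by decide +kernel

set_option maxHeartbeats 0 in
set_option maxRecDepth 100000 in
theorem chk_117 : chkRoot 117 = true := by decide +kernel

set_option maxHeartbeats 0 in
set_option maxRecDepth 100000 in
theorem chk_118 : chkRoot 118 = true := by decide +kernel

set_option maxHeartbeats 0 in
set_option maxRecDepth 100000 in
theorem chk_119 : chkRoot 119 = true := by decide +kernel

set_option maxHeartbeats 0 in
set_option maxRecDepth 100000 in
theorem chk_120 : chkRoot 120 = true := by decide +kernel

set_option maxHeartbeats 0 in
set_option maxRecDepth 100000 in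
theorem chk_121 : chkRoot 121 = true := by decide +kernel

set_option maxHeartbeats 0 in
set_option maxRecDepth 100000 in
theorem chk_122 : chkRoot 122 = true := by decide +kernel

set_option maxHeartbeats 0 in
set_option maxRecDepth 100000 in
theorem chk_123 : chkRoot 123 = true := by decide +kernel

set_option maxHeartbeats 0 in
set_option maxRecDepth 100000 in
theorem chk_124 : chkRoot 124 = true := by decide +kernel

set_option maxHeartbeats 0 in
set_option maxRecDepth 100000 in
theorem chk_125 : chkRoot 125 = true := by decide +kernel

theorem chk {r : ℕ} (h1 : 84 ≤ r) (h2 : r < 126) : chkRoot r = true := by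
  interval_cases r
  · exact chk_84
  · exact chk_85
  · exact chk_86
  · exact chk_87
  · exact chk_88
  · exact chk_89
  · exact chk_90
  · exact chk_91
  · exact chk_92
  · exact chk_93
  · exact chk_94
  · exact chk_95
  · exact chk_96
  · exact chk_97
  · exact chk_98
  · exact chk_99
  · exact chk_100
  · exact chk_101
  · exact chk_102
  · exact chk_103
  · exact chk_104
  · exact chk_105
  · exact chk_106
  · exact chk_107
  · exact chk_108
  · exact chk_109
  · exact chk_110
  · exact chk_111
  · exact chk_112
  · exact chk_113
  · exact chk_114
  · exact chk_115
  · exact chk_116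
  · exact chk_117
  · exact chk_118
  · exact chk_119
  · exact chk_120
  · exact chk_121
  · exact chk_122
  · exact chk_123
  · exact chk_124
  · exact chk_125

end Cfsg.Agent.Lib.KS71.E7r2
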